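import Mathlib

/-!
# Universal effective epimorphisms
-/

set_option autoImplicit false

universe v₁ u₁

namespace Groth.DescCat

open CategoryTheory CategoryTheory.Limits

variable {C : Type u₁} [Category.{v₁} C]

/-- Universal effective epimorphisms. -/
abbrev UEE : MorphismProperty C :=
  MorphismProperty.universally (fun (A B : C) (p : A ⟶ B) => EffectiveEpi p)

theorem UEE.eff {A B : C} {p : A ⟶ B} (h : UEE p) : EffectiveEpi p :=
  MorphismProperty.universally_le _ _ h

theorem UEE.of_isPullback {A B A' B' : C} {p : A ⟶ B} {p' : A' ⟶ B'} {a : A' ⟶ A} {b : B' ⟶ B}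
    (h : IsPullback a p' p b) (hp : UEE p) : UEE p' :=
  (MorphismProperty.universally_isStableUnderBaseChange _).of_isPullback h hp

theorem effectiveEpi_of_desc {A B : C} (p : A ⟶ B) [Epi p]
    (h : ∀ {W : C} (e : A ⟶ W), (∀ {Z : C} (g₁ g₂ : Z ⟶ A), g₁ ≫ p = g₂ ≫ p → g₁ ≫ e = g₂ ≫ e) →
      ∃ d : B ⟶ W, p ≫ d = e) : EffectiveEpi p :=
  ⟨⟨{ desc := fun e he => (h e he).choose
      fac := fun e he => (h e he).choose_spec
      uniq := fun e he m hm => by
        rw [← cancel_epi p, hm]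
        exact (h e he).choose_spec.symm }⟩⟩

variable [HasPullbacks C]

theorem UEE.pullback_snd {A B B' : C} {p : A ⟶ B} (b : B' ⟶ B) (hp : UEE p) :
    UEE (pullback.snd p b) :=
  UEE.of_isPullback (IsPullback.of_hasPullback p b) hp

theorem UEE.pullback_fst {A B B' : C} {p : A ⟶ B} (b : B' ⟶ B) (hp : UEE p) :
    UEE (pullback.fst b p) :=
  UEE.of_isPullback (IsPullback.of_hasPullback b p).flip hp

/-- Two maps can be lifted simultaneously along a universal epimorphism. -/
theorem lift₂ {U T Z : C} {v : U ⟶ T}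
    (hv : MorphismProperty.universally (MorphismProperty.epimorphisms C) v) (a b : Z ⟶ T) :
    ∃ (Z' : C) (q : Z' ⟶ Z) (l₁ l₂ : Z' ⟶ U), Epi q ∧ l₁ ≫ v = q ≫ a ∧ l₂ ≫ v = q ≫ b := by
  have h₁ : Epi (pullback.fst a v) := hv _ _ _ (IsPullback.of_hasPullback a v)
  have h₂ : Epi (pullback.fst (pullback.fst a v ≫ b) v) :=
    hv _ _ _ (IsPullback.of_hasPullback (pullback.fst a v ≫ b) v)
  refine ⟨_, pullback.fst (pullback.fst a v ≫ b) v ≫ pullback.fst a v,
    pullback.fst _ _ ≫ pullback.snd a v, pullback.snd _ _, epi_comp _ _, ?_, ?_⟩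
  · simp [← pullback.condition]
  · simp [← pullback.condition]

theorem effectiveEpi_comp {U T S : C} (v : U ⟶ T) (u : T ⟶ S) [EffectiveEpi u] [EffectiveEpi v]
    (hv : MorphismProperty.universally (MorphismProperty.epimorphisms C) v) :
    EffectiveEpi (v ≫ u) := by
  haveI : Epi (v ≫ u) := epi_comp _ _
  refine effectiveEpi_of_desc _ fun e he => ?_
  let d := EffectiveEpi.desc v e fun g₁ g₂ h => he g₁ g₂ (by rw [← Category.assoc, h, Category.assoc])
  refine ⟨EffectiveEpi.desc u d fun a b h => ?_, by simp [d]⟩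
  obtain ⟨Z', q, l₁, l₂, hq, h₁, h₂⟩ := lift₂ hv a b
  rw [← cancel_epi q, ← Category.assoc, ← Category.assoc, ← h₁, ← h₂]
  simp only [Category.assoc, d, EffectiveEpi.fac]
  exact he l₁ l₂ (by rw [← Category.assoc, h₁, Category.assoc, h, ← Category.assoc, ← h₂, Category.assoc])

theorem UEE.univ_epi {U T : C} {v : U ⟶ T} (hv : UEE v) :
    MorphismProperty.universally (MorphismProperty.epimorphisms C) v :=
  fun _ _ a b f h => @epi_of_effectiveEpi _ _ _ _ f (hv a b f h)

theorem UEE.comp {U T S : C} {v : U ⟶ T} {u : T ⟶ S} (hv : UEE v) (hu : UEE u) : UEE (v ≫ u) := by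
  intro X' Y' i₁ i₂ f' H
  have hw := pullback.lift_fst _ _ (H.w.trans (Category.assoc _ _ _).symm)
  rw [← hw] at H ⊢
  have hu' := hu _ _ _ (IsPullback.of_hasPullback i₂ u)
  have hpb := (H.of_right (pullback.lift_snd _ _ _) (IsPullback.of_hasPullback i₂ u))
  haveI := hu'
  haveI := hv _ _ _ hpb
  exact effectiveEpi_comp _ _ fun _ _ _ _ f h => hv.univ_epi _ _ f (h.paste_vert hpb)

theorem effectiveEpi_of_comp {U T S : C} (v : U ⟶ T) (u : T ⟶ S) (h : UEE (v ≫ u)) : EffectiveEpi u := by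
  haveI := h.eff
  haveI : Epi u := epi_of_epi v u
  refine effectiveEpi_of_desc _ fun e he => ?_
  let d := EffectiveEpi.desc (v ≫ u) (v ≫ e) fun g₁ g₂ hg => by
    simpa using he (g₁ ≫ v) (g₂ ≫ v) (by simpa using hg)
  refine ⟨d, ?_⟩
  haveI : EffectiveEpi (pullback.fst u (v ≫ u)) := h _ _ _ (IsPullback.of_hasPullback u (v ≫ u))
  rw [← cancel_epi (pullback.fst u (v ≫ u)), pullback.condition_assoc]
  have h1 : (v ≫ u) ≫ d = v ≫ e := EffectiveEpi.fac _ _ _
  rw [h1]
  have := he (pullback.fst u (v ≫ u)) (pullback.snd u (v ≫ u) ≫ v)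
    (by rw [Category.assoc]; exact pullback.condition)
  simpa using this.symm

theorem UEE.of_comp {U T S : C} (v : U ⟶ T) {u : T ⟶ S} (h : UEE (v ≫ u)) : UEE u := by
  intro X' Y' i₁ i₂ f' H
  exact effectiveEpi_of_comp (pullback.fst i₁ v) f'
    (UEE.of_isPullback ((IsPullback.of_hasPullback i₁ v).paste_horiz H).flip h)

theorem UEE.iff_baseChange {S' S T : C} {g : S' ⟶ S} (hg : UEE g) (u : T ⟶ S) :
    UEE u ↔ UEE (pullback.snd u g) := by
  refine ⟨UEE.pullback_snd g, fun h => UEE.of_comp (pullback.fst u g) ?_⟩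
  rw [pullback.condition]
  exact h.comp hg

/-- Base change of a morphism over `S` as a pullback square. -/
theorem isPullback_map {S' S : C} (f : S' ⟶ S) {X Y : Over S} (g : X ⟶ Y) :
    IsPullback (pullback.fst X.hom f) ((Over.pullback f).map g).left g.left (pullback.fst Y.hom f) := by
  have e₁ : ((Over.pullback f).map g).left ≫ pullback.fst Y.hom f = pullback.fst X.hom f ≫ g.left :=
    pullback.lift_fst _ _ _
  have e₂ : ((Over.pullback f).map g).left ≫ pullback.snd Y.hom f = pullback.snd X.hom f :=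
    pullback.lift_snd _ _ _
  refine (IsPullback.of_right ?_ e₁ (IsPullback.of_hasPullback Y.hom f).flip).flip
  rw [Over.w g]
  exact e₂.symm ▸ (IsPullback.of_hasPullback X.hom f).flip

theorem mono_iff {S' S : C} (f : S' ⟶ S) (hf : UEE f) {X Y : Over S} (g : X ⟶ Y) :
    Mono g ↔ Mono ((Over.pullback f).map g) := by
  refine ⟨fun _ => inferInstance, fun _ => ?_⟩
  have hm : Mono ((Over.pullback f).map g).left := inferInstance
  have key : Mono g.left := ⟨fun {Z} a b h => by
    obtain ⟨Z', q, l₁, l₂, hq, h₁, h₂⟩ := lift₂ (hf.univ_epi) (a ≫ X.hom) (a ≫ X.hom)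
    have hb : b ≫ X.hom = a ≫ X.hom := by
      rw [← Over.w g, ← Category.assoc, ← Category.assoc, h]
    rw [← cancel_epi q]
    let u₁ : Z' ⟶ pullback X.hom f := pullback.lift (q ≫ a) l₁ (by rw [Category.assoc, h₁])
    let u₂ : Z' ⟶ pullback X.hom f := pullback.lift (q ≫ b) l₁ (by rw [Category.assoc, h₁, hb])
    have sq := (isPullback_map f g).w
    have e₂ : ((Over.pullback f).map g).left ≫ pullback.snd Y.hom f = pullback.snd X.hom f :=
      pullback.lift_snd _ _ _
    have hu₁ : u₁ ≫ pullback.fst X.hom f = q ≫ a := pullback.lift_fst _ _ _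
    have hu₂ : u₂ ≫ pullback.fst X.hom f = q ≫ b := pullback.lift_fst _ _ _
    have hv₁ : u₁ ≫ pullback.snd X.hom f = l₁ := pullback.lift_snd _ _ _
    have hv₂ : u₂ ≫ pullback.snd X.hom f = l₁ := pullback.lift_snd _ _ _
    have : u₁ = u₂ := hm.right_cancellation _ _ (pullback.hom_ext
      (by
        erw [Category.assoc, Category.assoc, ← sq, reassoc_of% hu₁, reassoc_of% hu₂, h])
      (by erw [Category.assoc, Category.assoc, e₂, hv₁, hv₂]))
    rw [← hu₁, ← hu₂, this]⟩
  exact Over.mono_of_mono_left g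

theorem isIso_iff {S' S : C} (f : S' ⟶ S) (hf : UEE f) {X Y : Over S} (g : X ⟶ Y) :
    IsIso g ↔ IsIso ((Over.pullback f).map g) := by
  refine ⟨fun _ => inferInstance, fun _ => ?_⟩
  have hi : IsIso ((Over.pullback f).map g).left :=
    inferInstanceAs (IsIso ((Over.forget S').map ((Over.pullback f).map g)))
  haveI : Mono g := (mono_iff f hf g).2 inferInstance
  haveI : EffectiveEpi (pullback.fst Y.hom f) := (UEE.pullback_fst Y.hom hf).eff
  have sq := (isPullback_map f g).w
  suffices h : IsIso g.left by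
    haveI : IsIso ((Over.forget S).map g) := h
    exact isIso_of_reflects_iso g (Over.forget S)
  let k := inv ((Over.pullback f).map g).left ≫ pullback.fst X.hom f
  have hk : k ≫ g.left = pullback.fst Y.hom f := by
    simp only [k, Category.assoc, sq, IsIso.inv_hom_id_assoc]
  let d := EffectiveEpi.desc (pullback.fst Y.hom f) k fun a b h => by
    refine (cancel_mono g.left).1 ?_
    refine (Category.assoc _ _ _).trans ((congrArg (a ≫ ·) hk).trans (h.trans ?_))
    exact ((Category.assoc _ _ _).trans (congrArg (b ≫ ·) hk)).symm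
  have h1 : d ≫ g.left = 𝟙 _ := by
    rw [← cancel_epi (pullback.fst Y.hom f)]
    simp [d, hk]
  exact ⟨d, by rw [← cancel_mono g.left, Category.assoc, h1]; simp, h1⟩

theorem nonempty_hom_iff {S' S : C} (f : S' ⟶ S) (hf : UEE f) (X Y : Over S) [Mono Y.hom] :
    Nonempty (X ⟶ Y) ↔ Nonempty ((Over.pullback f).obj X ⟶ (Over.pullback f).obj Y) := by
  refine ⟨fun ⟨g⟩ => ⟨(Over.pullback f).map g⟩, fun ⟨k⟩ => ?_⟩
  haveI : EffectiveEpi (pullback.fst X.hom f) := (UEE.pullback_fst X.hom hf).eff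
  let k' : pullback X.hom f ⟶ Y.left := k.left ≫ pullback.fst Y.hom f
  have hk : k' ≫ Y.hom = pullback.fst X.hom f ≫ X.hom := by
    simp only [k', Category.assoc, pullback.condition]
    exact (Category.assoc _ _ _).symm.trans ((congrArg (· ≫ f) (Over.w k)).trans rfl)
  refine ⟨Over.homMk (EffectiveEpi.desc (pullback.fst X.hom f) k' fun a b h => ?_) ?_⟩
  · refine (cancel_mono Y.hom).1 ?_
    refine (Category.assoc _ _ _).trans ((congrArg (a ≫ ·) hk).trans ?_)
    refine Eq.trans ?_ ((Category.assoc _ _ _).trans (congrArg (b ≫ ·) hk)).symm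
    exact (Category.assoc _ _ _).symm.trans ((congrArg (· ≫ X.hom) h).trans (Category.assoc _ _ _))
  · rw [← cancel_epi (pullback.fst X.hom f)]
    simp [hk]

theorem mono_of_isIso_mapDesc {S' S T : C} (f : S' ⟶ S) (hf : UEE f) (g : S ⟶ T)
    [IsIso (pullback.mapDesc f f g)] : Mono g where
  right_cancellation {Z} a b h := by
    obtain ⟨Z', q, l₁, l₂, hq, h₁, h₂⟩ := lift₂ hf.univ_epi a b
    let l : Z' ⟶ pullback (f ≫ g) (f ≫ g) := pullback.lift l₁ l₂ (by
      rw [← Category.assoc, h₁, Category.assoc, h, ← Category.assoc, ← h₂, Category.assoc])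
    let m := inv (pullback.mapDesc f f g)
    have e₁ : m ≫ pullback.fst f f = pullback.fst _ _ := by
      rw [IsIso.inv_comp_eq]; simp [pullback.mapDesc, pullback.map, pullback.lift_fst, pullback.lift_snd]
    have e₂ : m ≫ pullback.snd f f = pullback.snd _ _ := by
      rw [IsIso.inv_comp_eq]; simp [pullback.mapDesc, pullback.map, pullback.lift_fst, pullback.lift_snd]
    have hl₁ : l ≫ pullback.fst (f ≫ g) (f ≫ g) = l₁ := pullback.lift_fst _ _ _
    have hl₂ : l ≫ pullback.snd (f ≫ g) (f ≫ g) = l₂ := pullback.lift_snd _ _ _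
    rw [← cancel_epi q, ← h₁, ← h₂, ← hl₁, ← hl₂]
    rw [← e₁, ← e₂]
    simp [pullback.condition]

theorem isPullback_prodMap_left [HasBinaryProducts C] {X Y : C} (u : X ⟶ Y) (Z : C) :
    IsPullback (prod.fst : X ⨯ Z ⟶ X) (prod.map u (𝟙 Z)) u (prod.fst : Y ⨯ Z ⟶ Y) :=
  IsPullback.of_isLimit' ⟨by simp⟩ (PullbackCone.IsLimit.mk _
    (fun s => prod.lift s.fst (s.snd ≫ prod.snd)) (fun s => by simp [prod.lift_fst, prod.lift_snd])
    (fun s => by apply Limits.prod.hom_ext <;> simp [s.condition, prod.lift_fst, prod.lift_snd])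
    fun s m h₁ h₂ => by
      apply Limits.prod.hom_ext
      · simpa [prod.lift_fst, prod.lift_snd] using h₁
      · simpa [prod.lift_fst, prod.lift_snd] using congrArg (· ≫ prod.snd) h₂)

theorem isPullback_prodMap_right [HasBinaryProducts C] {X Y : C} (u : X ⟶ Y) (Z : C) :
    IsPullback (prod.snd : Z ⨯ X ⟶ X) (prod.map (𝟙 Z) u) u (prod.snd : Z ⨯ Y ⟶ Y) :=
  IsPullback.of_isLimit' ⟨by simp⟩ (PullbackCone.IsLimit.mk _
    (fun s => prod.lift (s.snd ≫ prod.fst) s.fst) (fun s => by simp [prod.lift_fst, prod.lift_snd])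
    (fun s => by apply Limits.prod.hom_ext <;> simp [s.condition, prod.lift_fst, prod.lift_snd])
    fun s m h₁ h₂ => by
      apply Limits.prod.hom_ext
      · simpa [prod.lift_fst, prod.lift_snd] using congrArg (· ≫ prod.fst) h₂
      · simpa [prod.lift_fst, prod.lift_snd] using h₁)

theorem UEE.prodMap [HasBinaryProducts C] {X Y X' Y' : C} {u : X ⟶ Y} {u' : X' ⟶ Y'} (hu : UEE u)
    (hu' : UEE u') : UEE (prod.map u u') := by
  have : prod.map u u' = prod.map u (𝟙 _) ≫ prod.map (𝟙 _) u' := by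
    rw [prod.map_map, Category.comp_id, Category.id_comp]
  rw [this]
  exact (UEE.of_isPullback (isPullback_prodMap_left u X') hu).comp
    (UEE.of_isPullback (isPullback_prodMap_right u' Y) hu')

theorem mono_iff_isKernelPair {R X Z : C} {p₁ p₂ : R ⟶ X}
    (e : UniversallyEffectiveEquivalenceRelation p₁ p₂) (f : X ⟶ Z) (g : e.B ⟶ Z) (hg : e.π ≫ g = f) :
    Mono g ↔ IsKernelPair f p₁ p₂ := by
  subst hg
  have hk : IsKernelPair e.π p₁ p₂ := e.isKernelPair
  refine ⟨fun _ => hk.comp_of_mono, fun h => ?_⟩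
  refine @mono_of_isIso_mapDesc _ _ _ _ _ _ e.π e.universally_effectiveEpi_π g ?_
  refine ⟨⟨h.isoPullback.inv ≫ hk.isoPullback.hom, ?_, ?_⟩⟩
  · rw [← cancel_epi hk.isoPullback.hom]
    have : hk.isoPullback.hom ≫ pullback.mapDesc e.π e.π g = h.isoPullback.hom := by
      apply pullback.hom_ext <;> simp [pullback.mapDesc, pullback.map, pullback.lift_fst, pullback.lift_snd]
    rw [reassoc_of% this]
    simp
  · have : hk.isoPullback.hom ≫ pullback.mapDesc e.π e.π g = h.isoPullback.hom := by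
      apply pullback.hom_ext <;> simp [pullback.mapDesc, pullback.map, pullback.lift_fst, pullback.lift_snd]
    simp [this]

theorem isKernelPair_prodMap [HasBinaryProducts C] {A B A' B' R R' : C} {f : A ⟶ B} {f' : A' ⟶ B'}
    {p₁ p₂ : R ⟶ A} {p₁' p₂' : R' ⟶ A'} (h : IsKernelPair f p₁ p₂) (h' : IsKernelPair f' p₁' p₂') :
    IsKernelPair (prod.map f f') (prod.map p₁ p₁') (prod.map p₂ p₂') :=
  IsPullback.of_isLimit' ⟨by rw [prod.map_map, prod.map_map, h.w, h'.w]⟩ (PullbackCone.IsLimit.mk _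
    (fun s => prod.lift
      (h.lift (s.fst ≫ prod.fst) (s.snd ≫ prod.fst) (by simpa using congrArg (· ≫ prod.fst) s.condition))
      (h'.lift (s.fst ≫ prod.snd) (s.snd ≫ prod.snd) (by simpa using congrArg (· ≫ prod.snd) s.condition)))
    (fun s => by apply Limits.prod.hom_ext <;> simp [prod.lift_fst, prod.lift_snd])
    (fun s => by apply Limits.prod.hom_ext <;> simp [prod.lift_fst, prod.lift_snd])
    fun s m h₁ h₂ => by
      apply Limits.prod.hom_ext <;> simp only [prod.lift_fst, prod.lift_snd]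
      · apply h.hom_ext
        · simpa using congrArg (· ≫ prod.fst) h₁
        · simpa using congrArg (· ≫ prod.fst) h₂
      · apply h'.hom_ext
        · simpa using congrArg (· ≫ prod.snd) h₁
        · simpa [prod.lift_fst, prod.lift_snd] using congrArg (· ≫ prod.snd) h₂)


end Groth.DescCat
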